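import Groth.Agent.ZClosLib.ImpurityQF
import Groth.Agent.ZClosLib.PurityQF

/-! Universal purity over a Noetherian local ring of the base. -/

set_option autoImplicit false
set_option linter.style.haveILetI false

universe u

open TensorProduct

namespace Groth.Agent.PureNoeth

open Groth.Agent.ZClosLib

attribute [local instance] Algebra.TensorProduct.rightAlgebra

variable {A B : Type u} [CommRing A] [CommRing B] [Algebra A B] [Algebra.FiniteType A B]
  {N : Type u} [AddCommGroup N] [Module B N] {p : Ideal A} [p.IsPrime]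

/-- An impurity over an algebra over the local ring gives one relative to the local ring. -/
theorem imp_atPrime {C : Type u} [CommRing C] [Algebra A C] [Algebra (Localization.AtPrime p) C]
    [IsScalarTower A (Localization.AtPrime p) C] {t' t : Ideal C} [t'.IsPrime] [t.IsPrime]
    (h : ImpurityQF.Imp A B N p C t' t) :
    ImpurityQF.Imp (Localization.AtPrime p) (Localization.AtPrime p ⊗[A] B)
      ((Localization.AtPrime p ⊗[A] B) ⊗[B] N) (IsLocalRing.maximalIdeal (Localization.AtPrime p)) C t' t := by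
  obtain ⟨B₂, N₂, _, _, _, _, _, _, _, _, _, _, _, _, f, P, _, hpush, hf, hle, htp, hP, hass, hno⟩ := h
  haveI := hpush
  haveI := htp
  let Ap := Localization.AtPrime p
  let Bp := Ap ⊗[A] B
  letI : Algebra Ap B₂ := ((algebraMap C B₂).comp (algebraMap Ap C)).toAlgebra
  haveI : IsScalarTower Ap C B₂ := IsScalarTower.of_algebraMap_eq fun _ => rfl
  haveI : IsScalarTower A Ap B₂ := IsScalarTower.of_algebraMap_eq fun a => by
    rw [IsScalarTower.algebraMap_apply Ap C B₂, ← IsScalarTower.algebraMap_apply A Ap C,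
      ← IsScalarTower.algebraMap_apply A C B₂]
  let u : Bp →ₐ[A] B₂ := Algebra.TensorProduct.lift (IsScalarTower.toAlgHom A Ap B₂) (IsScalarTower.toAlgHom A B B₂)
    fun _ _ => mul_comm _ _
  letI : Algebra Bp B₂ := u.toRingHom.toAlgebra
  haveI : IsScalarTower Ap Bp B₂ := IsScalarTower.of_algebraMap_eq fun a => by
    show algebraMap Ap B₂ a = u (a ⊗ₜ 1)
    rw [Algebra.TensorProduct.lift_tmul, map_one]
    simp only [mul_one, one_mul]
    rfl
  haveI : IsScalarTower B Bp B₂ := IsScalarTower.of_algebraMap_eq fun b => by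
    show algebraMap B B₂ b = u (1 ⊗ₜ b)
    rw [Algebra.TensorProduct.lift_tmul, map_one]
    simp only [mul_one, one_mul]
    rfl
  haveI : IsScalarTower A Bp B₂ := IsScalarTower.of_algebraMap_eq fun a => (u.commutes a).symm
  haveI : Algebra.IsPushout A Ap B Bp := inferInstance
  haveI : Algebra.IsPushout A C B B₂ := hpush.symm
  haveI hpush' : Algebra.IsPushout Ap Bp C B₂ :=
    ((Algebra.IsPushout.comp_iff A Ap B Bp (T := C) (T' := B₂)).1 inferInstance).symm
  letI : Module Bp N₂ := Module.compHom N₂ (algebraMap Bp B₂)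
  haveI : IsScalarTower Bp B₂ N₂ := IsScalarTower.of_algebraMap_smul fun _ _ => rfl
  haveI : IsScalarTower B Bp N₂ := IsScalarTower.to₁₂₄ B Bp B₂ N₂
  let g : Bp ⊗[B] N →ₗ[Bp] N₂ := (TensorProduct.isBaseChange B N Bp).lift f
  have hg : IsBaseChange B₂ g := IsBaseChange.of_comp (TensorProduct.isBaseChange B N Bp)
    (by rw [(TensorProduct.isBaseChange B N Bp).lift_comp]; exact hf)
  refine ⟨B₂, N₂, inferInstance, inferInstance, inferInstance, inferInstance, inferInstance, inferInstance,
    inferInstance, inferInstance, inferInstance, inferInstance, inferInstance, inferInstance, g, P, inferInstance,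
    hpush', hg, hle, ⟨?_⟩, hP, hass, hno⟩
  rw [Ideal.under_def]
  refine le_antisymm ?_ (IsLocalRing.le_maximalIdeal (Ideal.IsPrime.comap _).ne_top)
  rw [← IsLocalization.AtPrime.map_eq_maximalIdeal p Ap, Ideal.map_le_iff_le_comap, Ideal.comap_comap,
    ← IsScalarTower.algebraMap_eq]
  exact htp.over.le

/-- An impurity over a localisation of `C₀` descends to `C₀`. -/
theorem hasImpurity_of_localization {C₀ C : Type u} [CommRing C₀] [CommRing C] [Algebra A C₀] [Algebra A C] [Algebra C₀ C]
    [IsScalarTower A C₀ C] (M : Submonoid C₀) [IsLocalization M C] (t' t : Ideal C) [t'.IsPrime] [t.IsPrime]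
    (h : ImpurityQF.Imp A B N p C t' t) :
    ImpurityQF.Imp A B N p C₀ (t'.comap (algebraMap C₀ C)) (t.comap (algebraMap C₀ C)) := by
  obtain ⟨B₂, N₂, _, _, _, _, _, _, _, _, _, _, _, _, f, P, _, hpush, hf, hle, htp, hP, hass, hno⟩ := h
  haveI := hpush
  haveI := htp
  haveI := hP
  let B₀ := C₀ ⊗[A] B
  let N₀ := B₀ ⊗[B] N
  haveI : Algebra.IsPushout A B C₀ B₀ := Algebra.IsPushout.symm inferInstance
  letI : Algebra C₀ B₂ := ((algebraMap C B₂).comp (algebraMap C₀ C)).toAlgebra
  haveI : IsScalarTower C₀ C B₂ := IsScalarTower.of_algebraMap_eq fun _ => rfl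
  haveI : IsScalarTower A C₀ B₂ := IsScalarTower.of_algebraMap_eq fun a => by
    rw [IsScalarTower.algebraMap_apply C₀ C B₂, ← IsScalarTower.algebraMap_apply A C₀ C,
      ← IsScalarTower.algebraMap_apply A C B₂]
  let u : B₀ →ₐ[A] B₂ := Algebra.TensorProduct.lift (IsScalarTower.toAlgHom A C₀ B₂) (IsScalarTower.toAlgHom A B B₂)
    fun _ _ => mul_comm _ _
  letI : Algebra B₀ B₂ := u.toRingHom.toAlgebra
  haveI : IsScalarTower C₀ B₀ B₂ := IsScalarTower.of_algebraMap_eq fun a => by
    show algebraMap C₀ B₂ a = u (a ⊗ₜ 1)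
    rw [Algebra.TensorProduct.lift_tmul, map_one]
    simp only [mul_one, one_mul]
    rfl
  haveI : IsScalarTower B B₀ B₂ := IsScalarTower.of_algebraMap_eq fun b => by
    show algebraMap B B₂ b = u (1 ⊗ₜ b)
    rw [Algebra.TensorProduct.lift_tmul, map_one]
    simp only [mul_one, one_mul]
    rfl
  haveI : IsScalarTower A B₀ B₂ := IsScalarTower.of_algebraMap_eq fun a => (u.commutes a).symm
  haveI : Algebra.IsPushout A C B B₂ := hpush.symm
  haveI : Algebra.IsPushout A C₀ B B₀ := inferInstance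
  haveI hpush' : Algebra.IsPushout C₀ C B₀ B₂ :=
    (Algebra.IsPushout.comp_iff A C₀ B B₀ (T := C) (T' := B₂)).1 inferInstance
  haveI : Algebra.IsPushout C₀ B₀ C B₂ := hpush'.symm
  haveI hloc : IsLocalization (Algebra.algebraMapSubmonoid B₀ M) B₂ :=
    (Algebra.isLocalization_iff_isPushout M C).2 inferInstance
  letI : Module B₀ N₂ := Module.compHom N₂ (algebraMap B₀ B₂)
  haveI : IsScalarTower B₀ B₂ N₂ := IsScalarTower.of_algebraMap_smul fun _ _ => rfl
  haveI : IsScalarTower B B₀ N₂ := IsScalarTower.to₁₂₄ B B₀ B₂ N₂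
  letI : Module C₀ N₂ := Module.compHom N₂ (algebraMap C₀ C)
  haveI : IsScalarTower C₀ C N₂ := IsScalarTower.of_algebraMap_smul fun _ _ => rfl
  haveI : IsScalarTower C₀ B₂ N₂ := IsScalarTower.of_algebraMap_smul fun c m => by
    rw [IsScalarTower.algebraMap_apply C₀ C B₂, algebraMap_smul]; rfl
  haveI : IsScalarTower C₀ B₀ N₂ := IsScalarTower.to₁₂₄ C₀ B₀ B₂ N₂
  haveI : IsScalarTower C₀ B₀ N₀ := TensorProduct.isScalarTower_left
  haveI : Algebra.FiniteType C₀ B₀ := PurityBC.finiteType_of_isPushout A B C₀ B₀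
  let g : N₀ →ₗ[B₀] N₂ := (TensorProduct.isBaseChange B N B₀).lift f
  have hg : IsBaseChange B₂ g := IsBaseChange.of_comp (TensorProduct.isBaseChange B N B₀)
    (by rw [(TensorProduct.isBaseChange B N B₀).lift_comp]; exact hf)
  let t₀' := t'.comap (algebraMap C₀ C)
  let t₀ := t.comap (algebraMap C₀ C)
  haveI : t'.LiesOver t₀' := ⟨rfl⟩
  obtain ⟨hover, hass₀⟩ := PurityQF.assoc_contract (A := C₀) (C := C) g (QCart13.isBaseChange_of_pushout g hg)
    t₀' t' P hass
  refine ⟨B₀, N₀, inferInstance, inferInstance, inferInstance, inferInstance, inferInstance, inferInstance,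
    inferInstance, inferInstance, inferInstance, inferInstance, inferInstance, inferInstance,
    TensorProduct.mk B B₀ N 1, P.comap (algebraMap B₀ B₂), inferInstance,
    ‹Algebra.IsPushout A B C₀ B₀›, TensorProduct.isBaseChange B N B₀, Ideal.comap_mono hle, ⟨?_⟩, hover, hass₀,
    fun P' hP' hPP' hP't => ?_⟩
  · rw [Ideal.under_def, Ideal.comap_comap, ← IsScalarTower.algebraMap_eq]
    exact htp.over
  have hd : Disjoint (Algebra.algebraMapSubmonoid B₀ M : Set B₀) (P' : Set B₀) := by
    rw [Set.disjoint_left]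
    rintro _ ⟨m, hm, rfl⟩ hmP
    have h1 : m ∈ t₀ := hP't.over.ge hmP
    exact ‹t.IsPrime›.ne_top (Ideal.eq_top_of_isUnit_mem t h1 (IsLocalization.map_units C ⟨m, hm⟩))
  haveI : (P'.map (algebraMap B₀ B₂)).IsPrime :=
    IsLocalization.isPrime_of_isPrime_disjoint (Algebra.algebraMapSubmonoid B₀ M) B₂ P' hP' hd
  refine hno (P'.map (algebraMap B₀ B₂)) ?_ ⟨?_⟩
  · rw [← IsLocalization.map_comap (Algebra.algebraMapSubmonoid B₀ M) B₂ P]
    exact Ideal.map_mono hPP'
  · have h1 : ((P'.map (algebraMap B₀ B₂)).comap (algebraMap C B₂)).comap (algebraMap C₀ C) = t₀ := by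
      have hc : (P'.map (algebraMap B₀ B₂)).comap (algebraMap B₀ B₂) = P' :=
        IsLocalization.comap_map_of_isPrime_disjoint (Algebra.algebraMapSubmonoid B₀ M) B₂ hP' hd
      rw [Ideal.comap_comap, ← IsScalarTower.algebraMap_eq, IsScalarTower.algebraMap_eq C₀ B₀ B₂, ← Ideal.comap_comap, hc]
      exact hP't.over.symm
    rw [Ideal.under_def, ← IsLocalization.map_comap M C t, ← IsLocalization.map_comap M C
      ((P'.map (algebraMap B₀ B₂)).comap (algebraMap C B₂))]; exact congrArg _ h1.symm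

/-- Over a Noetherian local ring of the base, purity along a fibre is universal. -/
theorem isUnivPureAlong_of_isPureAlong [Module.Finite B N] [IsNoetherianRing (Localization.AtPrime p)]
    (h : FlatCA.IsPureAlong A B N p) : FlatCA.IsUnivPureAlong A B N p := by
  intro A₁ B₁ N₁ _ _ _ _ _ _ _ _ _ _ _ _ _ _ f₁ t₁' t₁ _ _ P₁ _ himp
  haveI : Algebra.IsPushout A B A₁ B₁ := himp.1
  haveI : t₁.LiesOver p := himp.2.2.2.1
  let Ap := Localization.AtPrime p
  let A₂ := Localization.AtPrime t₁
  let t₂ : Ideal A₂ := IsLocalRing.maximalIdeal A₂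
  haveI : t₂.LiesOver t₁ := ⟨(IsLocalization.AtPrime.under_maximalIdeal A₂ t₁).symm⟩
  have hd : Disjoint (t₁.primeCompl : Set A₁) (t₁' : Set A₁) :=
    Set.disjoint_left.2 fun a ha ha' => ha (himp.2.2.1 ha')
  let t₂' : Ideal A₂ := t₁'.map (algebraMap A₁ A₂)
  haveI : t₂'.IsPrime := IsLocalization.isPrime_of_isPrime_disjoint t₁.primeCompl A₂ t₁' ‹_› hd
  haveI : t₂'.LiesOver t₁' := ⟨(IsLocalization.comap_map_of_isPrime_disjoint t₁.primeCompl A₂ ‹_› hd).symm⟩
  have hI₂ : ImpurityQF.Imp A B N p A₂ t₂' t₂ :=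
    ImpurityQF.imp_baseChange (A₁ := A₁) (t' := t₁') (t := t₁)
      ⟨B₁, N₁, inferInstance, inferInstance, inferInstance, inferInstance, inferInstance, inferInstance,
        inferInstance, inferInstance, inferInstance, inferInstance, inferInstance, inferInstance, f₁, P₁, inferInstance,
        himp⟩ A₂ t₂' t₂ (IsLocalRing.le_maximalIdeal (Ideal.IsPrime.ne_top ‹_›))
  have hu : ∀ a : p.primeCompl, IsUnit (algebraMap A A₂ a) := fun a => by
    rw [IsScalarTower.algebraMap_apply A A₁ A₂]
    exact IsLocalization.map_units A₂ (⟨algebraMap A A₁ a, fun hm => a.2 ((Ideal.mem_of_liesOver t₁ p a.1).2 hm)⟩ : t₁.primeCompl)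
  letI : Algebra Ap A₂ := (IsLocalization.lift hu).toAlgebra
  haveI : IsScalarTower A Ap A₂ := IsScalarTower.of_algebraMap_eq fun a => (IsLocalization.lift_eq hu a).symm
  let Bp := Ap ⊗[A] B
  haveI : Algebra.IsPushout A B Ap Bp := Algebra.IsPushout.symm inferInstance
  haveI : Algebra.FiniteType Ap Bp := PurityBC.finiteType_of_isPushout A B Ap Bp
  obtain ⟨B₂, N₂, _, _, _, _, _, _, _, _, _, _, _, _, f₂, P₂, _, himp₂⟩ := imp_atPrime hI₂
  obtain ⟨E, BE, NE, _, _, _, _, _, _, _, _, _, _, _, _, _, _, fE, s', s, _, _, PE, _, himpE, _, hft, hqf⟩ :=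
    ImpurityQF.hasImpurity_quasiFinite (A := Ap) (B := Bp) (N := Bp ⊗[B] N)
      ⟨A₂, B₂, N₂, inferInstance, inferInstance, inferInstance, inferInstance, inferInstance, inferInstance,
        inferInstance, inferInstance, inferInstance, inferInstance, inferInstance, inferInstance, inferInstance,
        inferInstance, f₂, t₂', t₂, inferInstance, inferInstance, P₂, inferInstance, himp₂, trivial⟩
  haveI : Algebra.IsPushout Ap Bp E BE := himpE.1
  haveI : s.LiesOver (IsLocalRing.maximalIdeal Ap) := himpE.2.2.2.1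
  haveI := hft
  haveI := hqf
  letI : Algebra A E := ((algebraMap Ap E).comp (algebraMap A Ap)).toAlgebra
  haveI : IsScalarTower A Ap E := IsScalarTower.of_algebraMap_eq fun _ => rfl
  letI : Algebra B BE := ((algebraMap Bp BE).comp (algebraMap B Bp)).toAlgebra
  haveI : IsScalarTower B Bp BE := IsScalarTower.of_algebraMap_eq fun _ => rfl
  letI : Algebra A BE := ((algebraMap E BE).comp (algebraMap A E)).toAlgebra
  haveI : IsScalarTower A E BE := IsScalarTower.of_algebraMap_eq fun _ => rfl
  haveI : IsScalarTower A B BE := IsScalarTower.of_algebraMap_eq fun x => by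
    show algebraMap E BE (algebraMap Ap E (algebraMap A Ap x)) = algebraMap Bp BE (algebraMap B Bp (algebraMap A B x))
    rw [← IsScalarTower.algebraMap_apply Ap E BE, IsScalarTower.algebraMap_apply Ap Bp BE,
      ← IsScalarTower.algebraMap_apply A B Bp, ← IsScalarTower.algebraMap_apply A Ap Bp]
  letI : Module B NE := Module.compHom NE (algebraMap B Bp)
  haveI : IsScalarTower B Bp NE := IsScalarTower.of_algebraMap_smul fun _ _ => rfl
  haveI : IsScalarTower B BE NE := IsScalarTower.of_algebraMap_smul fun b z => algebraMap_smul BE (algebraMap B Bp b) z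
  haveI : s.LiesOver p := ⟨by
    rw [← IsLocalization.AtPrime.under_maximalIdeal Ap p, Ideal.under_def, Ideal.under_def, IsScalarTower.algebraMap_eq A Ap E,
      ← Ideal.comap_comap]
    exact congrArg (Ideal.comap (algebraMap A Ap)) (Ideal.LiesOver.over (P := s) (p := IsLocalRing.maximalIdeal Ap))⟩
  have hIE : ImpurityQF.Imp A B N p E s' s :=
    ⟨BE, NE, inferInstance, inferInstance, inferInstance, inferInstance, inferInstance, inferInstance,
      inferInstance, inferInstance, inferInstance, inferInstance, inferInstance, inferInstance,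
      fE.restrictScalars B ∘ₗ TensorProduct.mk B Bp N 1, PE, inferInstance,
      PurityBC.isPushout_comp A B Ap Bp E BE inferInstance himpE.1,
      (TensorProduct.isBaseChange B N Bp).comp himpE.2.1, himpE.2.2.1, inferInstance, himpE.2.2.2.2.1, himpE.2.2.2.2.2.1,
      himpE.2.2.2.2.2.2⟩
  -- a finite type model
  obtain ⟨G, hG⟩ := hft.out
  let E₀ : Subalgebra A E := Algebra.adjoin A (G : Set E)
  haveI : Algebra.FiniteType A E₀ := (Subalgebra.fg_iff_finiteType _).1 ⟨G, rfl⟩
  let M : Submonoid E₀ := p.primeCompl.map (algebraMap A E₀)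
  have hinj : Function.Injective (algebraMap E₀ E) := Subtype.val_injective
  have hM : ∀ a : A, a ∉ p → IsUnit (algebraMap A E a) := fun a ha => by
    rw [IsScalarTower.algebraMap_apply A Ap E]
    exact (IsLocalization.map_units Ap (⟨a, ha⟩ : p.primeCompl)).map _
  have hsurj : ∀ z : E, ∃ a : A, a ∉ p ∧ algebraMap A E a * z ∈ E₀ := by
    intro z
    have hz : z ∈ Algebra.adjoin Ap (G : Set E) := hG ▸ Algebra.mem_top
    induction hz using Algebra.adjoin_induction with
    | mem x hx => exact ⟨1, (Ideal.ne_top_iff_one p).1 (Ideal.IsPrime.ne_top ‹_›), by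
        rw [map_one, one_mul]; exact Algebra.subset_adjoin hx⟩
    | algebraMap r =>
      obtain ⟨⟨a, c⟩, hac⟩ := IsLocalization.surj p.primeCompl r
      refine ⟨c, c.2, ?_⟩
      rw [IsScalarTower.algebraMap_apply A Ap E, ← map_mul, mul_comm, hac, ← IsScalarTower.algebraMap_apply]
      exact E₀.algebraMap_mem a
    | add x y _ _ hx hy =>
      obtain ⟨a, ha, hax⟩ := hx
      obtain ⟨b, hb, hby⟩ := hy
      refine ⟨a * b, fun hm => (Ideal.IsPrime.mem_or_mem ‹_› hm).elim ha hb, ?_⟩
      rw [map_mul, mul_add]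
      refine E₀.add_mem ?_ ?_
      · rw [mul_comm (algebraMap A E a), mul_assoc]
        exact E₀.mul_mem (E₀.algebraMap_mem b) hax
      · rw [mul_assoc]
        exact E₀.mul_mem (E₀.algebraMap_mem a) hby
    | mul x y _ _ hx hy =>
      obtain ⟨a, ha, hax⟩ := hx
      obtain ⟨b, hb, hby⟩ := hy
      refine ⟨a * b, fun hm => (Ideal.IsPrime.mem_or_mem ‹_› hm).elim ha hb, ?_⟩
      rw [map_mul, mul_mul_mul_comm]
      exact E₀.mul_mem hax hby
  haveI : IsLocalization M E := by
    refine ⟨?_, fun z => ?_, fun {x y} hxy => ⟨1, by rw [hinj hxy]⟩⟩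
    · rintro ⟨_, a, ha, rfl⟩
      rw [← IsScalarTower.algebraMap_apply]
      exact hM a ha
    · obtain ⟨a, ha, haz⟩ := hsurj z
      refine ⟨(⟨_, haz⟩, ⟨algebraMap A E₀ a, a, ha, rfl⟩), ?_⟩
      show z * algebraMap E₀ E (algebraMap A E₀ a) = algebraMap A E a * z
      rw [← IsScalarTower.algebraMap_apply, mul_comm]
  have h₀ := hasImpurity_of_localization M s' s hIE
  let s₀ := s.comap (algebraMap E₀ E)
  haveI : IsLocalization.AtPrime (Localization.AtPrime s) s₀ :=
    IsLocalization.isLocalization_isLocalization_atPrime_isLocalization M (Localization.AtPrime s) s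
  haveI : Algebra.QuasiFiniteAt A s₀ := by
    haveI : Algebra.QuasiFinite A Ap := Algebra.QuasiFinite.of_isLocalization (S := A) p.primeCompl
    haveI : Algebra.QuasiFinite A (Localization.AtPrime s) := Algebra.QuasiFinite.trans A Ap _
    exact (Algebra.QuasiFinite.iff_of_algEquiv
      ((IsLocalization.algEquiv s₀.primeCompl (Localization.AtPrime s₀) (Localization.AtPrime s)).restrictScalars A)).2
      inferInstance
  obtain ⟨B₀, N₀, _, _, _, _, _, _, _, _, _, _, _, _, f₀, P₀, _, himp₀⟩ := h₀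
  exact PurityQF.not_impurity_of_quasiFiniteAt h himp₀

end Groth.Agent.PureNoeth
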